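import Cfsg.Agent.H64.E83.Orb
import Cfsg.Agent.H60.E83.Conj
import Cfsg.Agent.H114.E8L.Stmt
import Cfsg.Agent.H74.E83.Trip

/-!
# S5925: every triple which is not of type `y₂` is conjugate to `(Ph Ax, Ph Ay, Ph At)` (helper64)
-/

set_option autoImplicit false
set_option maxRecDepth 10000

namespace Cfsg.Agent.H64.E83

open Matrix Cfsg Cfsg.Lie
open Cfsg.Agent.H788.E83 (SL5 As Ax Ay At)
open Cfsg.Agent.H238.E8 (ph1 ph2)
open Cfsg.Agent.H60.E83 (xh yh SameU conj_e8)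
open Cfsg.Agent.H828.E83 (Rel)
open Cfsg.Agent.H908.E8L (Fr Mo bconj_e8)

/-- `y₂` -/
noncomputable abbrev yh2 : E := ph2 (ZMod 3) Fr

/-- no common fixed vector -/
def NFx (x y t : E) : Prop := ∀ v : L3, ac x v = v → ac y v = v → ac t v = v → v = 0

/-- box E -/
def BEh : Prop := ∀ t : E, Rel xh yh2 t → ¬ NFx xh yh2 t

theorem rel_ph : Rel (Ph Ax) (Ph Ay) (Ph At) where
  x11 := H74.E83.Trip.x1_pow
  x1 := H74.E83.Trip.x1_ne
  y5 := H74.E83.Trip.y1_pow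
  y1 := H74.E83.Trip.y1_ne
  yx := H74.E83.Trip.y1_x1
  tt := htt
  ty := by
    have h : (Ph At)⁻¹ = Ph At := inv_eq_of_mul_eq_one_right htt
    rw [h]; exact H74.E83.Trip.t1_y1
  xt := by
    have h : (Ph Ax * Ph At) ^ 3 = 1 := H74.E83.Trip.x1_t1
    rw [← h, pow_succ, pow_two]

theorem nf_ph : NFx (Ph Ax) (Ph Ay) (Ph At) := fun _ h1 h2 h3 => H74.E83.Trip.noFix h1 h2 h3

theorem nf_conj {x y t : E} (g : E) (h : NFx x y t) : NFx (g * x * g⁻¹) (g * y * g⁻¹) (g * t * g⁻¹) := by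
  intro v h1 h2 h3
  have key : ∀ a : E, ac (g * a * g⁻¹) v = v → ac a (ac g⁻¹ v) = ac g⁻¹ v := by
    intro a ha
    rw [ac_mul, ac_mul] at ha
    have h4 := congrArg (ac g⁻¹) ha
    rwa [ac_inv_ac] at h4
  have h5 := h _ (key _ h1) (key _ h2) (key _ h3)
  have h6 := ac_ac_inv g v
  rw [h5] at h6
  rw [← h6]
  exact Matrix.mulVec_zero _

theorem rel_cj {x y t : E} (h : Rel x y t) (g : E) : Rel (g * x * g⁻¹) (g * y * g⁻¹) (g * t * g⁻¹) :=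
  h.map (MulAut.conj g).toMonoidHom (MulAut.conj g).injective

/-- a triple without fixed vectors is not of type `y₂` -/
theorem not_y2 (hE : BEh) {x y t : E} (h : Rel x y t) (hN : NFx x y t) (g : E) (hx : g * x * g⁻¹ = xh)
    (hy : g * y * g⁻¹ = yh2) : False := by
  have h1 := rel_cj h g
  have h2 := nf_conj g hN
  rw [hx, hy] at h1 h2
  exact hE _ h1 h2

/-- the third element for the standard pair -/
theorem exists_t0 (hE : BEh) : ∃ g : E, g * Ph Ax * g⁻¹ = xh ∧ g * Ph Ay * g⁻¹ = yh ∧ Rel xh yh (g * Ph At * g⁻¹) := by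
  obtain ⟨g, hx, hy⟩ := bconj_e8 (Ph Ax) (Ph Ay) rel_ph.x11 rel_ph.x1 rel_ph.y5 rel_ph.yx
  rcases hy with hy | hy
  · exact (not_y2 hE rel_ph nf_ph g hx hy).elim
  · have h1 := rel_cj rel_ph g
    rw [hx, hy] at h1
    exact ⟨g, hx, hy, h1⟩

/-- **conjugacy to `(Ph Ax, Ph Ay, Ph At)`** -/
theorem conj_ph (hE : BEh)
    (hU : ∀ t0 : E, Rel xh yh t0 → ∀ t : E, Rel xh yh t →
      ∃ k : E, k * xh = xh * k ∧ k * yh = yh * k ∧ SameU yh (k * t * k⁻¹) t0)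
    {x y t : E} (h : Rel x y t) (hne : ∀ g : E, g * x * g⁻¹ = xh → g * y * g⁻¹ = yh2 → False) :
    ∃ g : E, g * x * g⁻¹ = Ph Ax ∧ g * y * g⁻¹ = Ph Ay ∧ g * t * g⁻¹ = Ph At := by
  obtain ⟨g, gx, gy, gt⟩ := exists_t0 hE
  obtain ⟨k, kx, ky, kt⟩ := conj_e8 gt (hU _ gt) h hne
  refine ⟨g⁻¹ * k, ?_, ?_, ?_⟩
  · have e : g⁻¹ * k * x * (g⁻¹ * k)⁻¹ = g⁻¹ * (k * x * k⁻¹) * g := by group
    rw [e, kx, ← gx]; group
  · have e : g⁻¹ * k * y * (g⁻¹ * k)⁻¹ = g⁻¹ * (k * y * k⁻¹) * g := by group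
    rw [e, ky, ← gy]; group
  · have e : g⁻¹ * k * t * (g⁻¹ * k)⁻¹ = g⁻¹ * (k * t * k⁻¹) * g := by group
    rw [e, kt]; group

/-- from the two-variable uniqueness -/
theorem conj_ph' (hE : BEh)
    (hU : ∀ t t' : E, Rel xh yh t → Rel xh yh t' →
      ∃ k : E, k * xh = xh * k ∧ k * yh = yh * k ∧ k * t * k⁻¹ = t')
    {x y t : E} (h : Rel x y t) (hne : ∀ g : E, g * x * g⁻¹ = xh → g * y * g⁻¹ = yh2 → False) :
    ∃ g : E, g * x * g⁻¹ = Ph Ax ∧ g * y * g⁻¹ = Ph Ay ∧ g * t * g⁻¹ = Ph At := by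
  refine conj_ph hE (fun t0 h0 t ht => ?_) h hne
  obtain ⟨k, k1, k2, k3⟩ := hU t t0 ht h0
  exact ⟨k, k1, k2, by rw [k3]; exact fun v hv => rfl⟩

/-! ### the forms of helper114's `Stmt.lean` -/

theorem Mo_eq : H114.E8L.MoS = Mo := Subtype.ext rfl

theorem Fr_eq : H114.E8L.FrS = Fr := Subtype.ext rfl

theorem x0_eq : H114.E8L.x0 = xh := congrArg (ph2 (ZMod 3)) Mo_eq

theorem y2_eq : H114.E8L.y2 = yh2 := congrArg (ph2 (ZMod 3)) Fr_eq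

theorem y0_eq : H114.E8L.y0 = yh := by
  show ph2 (ZMod 3) H114.E8L.FrS * ph1 (ZMod 3) H114.E8L.FrS = _
  rw [Fr_eq]

/-- the relations -/
theorem rel_791 {x y t : E} (h : Rel x y t) : H791.E8L.Rel x y t where
  x11 := h.x11
  y5 := h.y5
  t2 := h.tt
  xt := by rw [pow_succ, pow_two]; exact h.xt
  yx := h.yx
  ty := by
    have h1 : t⁻¹ = t := inv_eq_of_mul_eq_one_right h.tt
    rw [← h.ty, h1]

theorem rel_828 {x y t : E} (h : H791.E8L.Rel x y t) (hx : x ≠ 1) (hy : y ≠ 1) : Rel x y t where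
  x11 := h.x11
  x1 := hx
  y5 := h.y5
  y1 := hy
  yx := h.yx
  tt := h.t2
  ty := by
    have h1 : t⁻¹ = t := inv_eq_of_mul_eq_one_right h.t2
    rw [h1, h.ty]
  xt := by rw [← h.xt, pow_succ, pow_two]

/-- box E of `Stmt.lean` -/
theorem beh_of (hE : H114.E8L.BE) : BEh := by
  intro t ht hN
  have h1 := rel_791 ht
  rw [← x0_eq, ← y2_eq] at h1
  refine hE t h1 ?_
  rw [x0_eq, y2_eq]
  exact hN

/-- uniqueness of `Stmt.lean` -/
theorem uniq_of (hU : H114.E8L.Uniq0) (t t' : E) (ht : Rel xh yh t) (ht' : Rel xh yh t') :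
    ∃ k : E, k * xh = xh * k ∧ k * yh = yh * k ∧ k * t * k⁻¹ = t' := by
  have h1 := rel_791 ht
  have h2 := rel_791 ht'
  rw [← x0_eq, ← y0_eq] at h1 h2 ⊢
  exact hU t t' h1 h2

/-- **Conjugacy, in the form of `Stmt.lean`.** -/
theorem conj (hE : H114.E8L.BE) (hU : H114.E8L.Uniq0) (x y t : E) (h : H791.E8L.Rel x y t) (hx : x ≠ 1) (hy : y ≠ 1)
    (hn : ¬ ∃ g : E, g * x * g⁻¹ = H114.E8L.x0 ∧ g * y * g⁻¹ = H114.E8L.y2) :
    ∃ g : E, g * x * g⁻¹ = Ph Ax ∧ g * y * g⁻¹ = Ph Ay ∧ g * t * g⁻¹ = Ph At := by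
  refine conj_ph' (beh_of hE) (uniq_of hU) (rel_828 h hx hy) fun g h1 h2 => hn ⟨g, ?_, ?_⟩
  · rw [x0_eq]; exact h1
  · rw [y2_eq]; exact h2

end Cfsg.Agent.H64.E83
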